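import Cfsg.Agent.Lib.CosetEnum.MclCover.TabE_Data0

/-! Generated certificate. -/

set_option autoImplicit false
set_option maxRecDepth 20000

namespace Cfsg.Lib.CosetEnum.MclCover

/-- The cocycle. -/
def tabE : Tab :=
  tabE_0

/-- The values of the relators. -/
def chi : List Nat :=
  [0, 0, 0, 0, 0, 0, 0, 0, 0, 0, 0, 0, 0, 0, 0, 0, 0, 0, 0, 0, 0, 0, 0, 0, 0, 0, 1, 0, 0]

end Cfsg.Lib.CosetEnum.MclCover
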