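import Cfsg.Agent.Lib.CosetEnum.Stem.CoverDefs
import Cfsg.Agent.Lib.CosetEnum.MclStepG.Data
import Cfsg.Agent.Lib.CosetEnum.MclCover.Data
import Cfsg.Agent.Lib.CosetEnum.MclStemG.Data

/-! Generated certificate. -/

set_option autoImplicit false
set_option maxRecDepth 20000

namespace Cfsg.Lib.CosetEnum.MclCover

open Stem

theorem coc_18 : cocOK MclStepG.tabP tabE 5 MclStemG.canon chi 500 9000 = true := by
  decide +kernel

theorem coc_19 : cocOK MclStepG.tabP tabE 5 MclStemG.canon chi 500 9500 = true := by
  decide +kernel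

theorem coc_20 : cocOK MclStepG.tabP tabE 5 MclStemG.canon chi 500 10000 = true := by
  decide +kernel

theorem coc_21 : cocOK MclStepG.tabP tabE 5 MclStemG.canon chi 500 10500 = true := by
  decide +kernel

theorem coc_22 : cocOK MclStepG.tabP tabE 5 MclStemG.canon chi 500 11000 = true := by
  decide +kernel

theorem coc_23 : cocOK MclStepG.tabP tabE 5 MclStemG.canon chi 500 11500 = true := by
  decide +kernel

end Cfsg.Lib.CosetEnum.MclCover
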