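import Cfsg.Agent.Lib.CosetEnum.Stem.CoverDefs
import Cfsg.Agent.Lib.CosetEnum.MclStepG.Data

/-! Generated certificate. -/

set_option autoImplicit false
set_option maxRecDepth 20000

namespace Cfsg.Lib.CosetEnum.MclCover

open Stem

theorem perm_0 : permOK MclStepG.tabP 5 22275 [] 3000 0 = true := by
  decide +kernel

theorem perm_1 : permOK MclStepG.tabP 5 22275 [] 3000 3000 = true := by
  decide +kernel

theorem perm_2 : permOK MclStepG.tabP 5 22275 [] 3000 6000 = true := by
  decide +kernel

theorem perm_3 : permOK MclStepG.tabP 5 22275 [] 3000 9000 = true := by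
  decide +kernel

end Cfsg.Lib.CosetEnum.MclCover
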