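import Cfsg.Agent.Lib.CosetEnum.Stem.CoverDefs
import Cfsg.Agent.Lib.CosetEnum.MclStepG.Data

/-! Generated certificate. -/

set_option autoImplicit false
set_option maxRecDepth 20000

namespace Cfsg.Lib.CosetEnum.MclCover

open Stem

theorem perm_4 : permOK MclStepG.tabP 5 22275 [] 3000 12000 = true := by
  decide +kernel

theorem perm_5 : permOK MclStepG.tabP 5 22275 [] 3000 15000 = true := by
  decide +kernel

theorem perm_6 : permOK MclStepG.tabP 5 22275 [] 3000 18000 = true := by
  decide +kernel

theorem perm_7 : permOK MclStepG.tabP 5 22275 [] 1275 21000 = true := by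
  decide +kernel

end Cfsg.Lib.CosetEnum.MclCover
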