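import Cfsg.Agent.Lib.CosetEnum.MclCover.PermPart0
import Cfsg.Agent.Lib.CosetEnum.MclCover.PermPart1
import Cfsg.Agent.Lib.CosetEnum.MclCover.CocPart0
import Cfsg.Agent.Lib.CosetEnum.MclCover.CocPart1
import Cfsg.Agent.Lib.CosetEnum.MclCover.CocPart2
import Cfsg.Agent.Lib.CosetEnum.MclCover.CocPart3
import Cfsg.Agent.Lib.CosetEnum.MclCover.CocPart4
import Cfsg.Agent.Lib.CosetEnum.MclCover.CocPart5
import Cfsg.Agent.Lib.CosetEnum.MclCover.CocPart6
import Cfsg.Agent.Lib.CosetEnum.MclCover.CocPart7

/-! Generated certificate. -/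

set_option autoImplicit false
set_option maxRecDepth 20000

namespace Cfsg.Lib.CosetEnum.MclCover

open Stem

theorem perm_ok : permOK MclStepG.tabP 5 22275 [] 22275 0 = true :=
  (permOK_append (a := 12000) (b := 10275) (permOK_append (a := 6000) (b := 6000) (permOK_append (a := 3000) (b := 3000) perm_0 perm_1) (permOK_append (a := 3000) (b := 3000) perm_2 perm_3)) (permOK_append (a := 6000) (b := 4275) (permOK_append (a := 3000) (b := 3000) perm_4 perm_5) (permOK_append (a := 3000) (b := 1275) perm_6 perm_7)))

theorem coc_ok : cocOK MclStepG.tabP tabE 5 MclStemG.canon chi 22275 0 = true :=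
  (cocOK_append (a := 11000) (b := 11275) (cocOK_append (a := 5500) (b := 5500) (cocOK_append (a := 2500) (b := 3000) (cocOK_append (a := 1000) (b := 1500) (cocOK_append (a := 500) (b := 500) coc_0 coc_1) (cocOK_append (a := 500) (b := 1000) coc_2 (cocOK_append (a := 500) (b := 500) coc_3 coc_4))) (cocOK_append (a := 1500) (b := 1500) (cocOK_append (a := 500) (b := 1000) coc_5 (cocOK_append (a := 500) (b := 500) coc_6 coc_7)) (cocOK_append (a := 500) (b := 1000) coc_8 (cocOK_append (a := 500) (b := 500) coc_9 coc_10)))) (cocOK_append (a := 2500) (b := 3000) (cocOK_append (a := 1000) (b := 1500) (cocOK_append (a := 500) (b := 500) coc_11 coc_12) (cocOK_append (a := 500) (b := 1000) coc_13 (cocOK_append (a := 500) (b := 500) coc_14 coc_15))) (cocOK_append (a := 1500) (b := 1500) (cocOK_append (a := 500) (b := 1000) coc_16 (cocOK_append (a := 500) (b := 500) coc_17 coc_18)) (cocOK_append (a := 500) (b := 1000) coc_19 (cocOK_append (a := 500) (b := 500) coc_20 coc_21))))) (cocOK_append (a := 5500) (b := 5775) (cocOK_append (a :=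 2500) (b := 3000) (cocOK_append (a := 1000) (b := 1500) (cocOK_append (a := 500) (b := 500) coc_22 coc_23) (cocOK_append (a := 500) (b := 1000) coc_24 (cocOK_append (a := 500) (b := 500) coc_25 coc_26))) (cocOK_append (a := 1500) (b := 1500) (cocOK_append (a := 500) (b := 1000) coc_27 (cocOK_append (a := 500) (b := 500) coc_28 coc_29)) (cocOK_append (a := 500) (b := 1000) coc_30 (cocOK_append (a := 500) (b := 500) coc_31 coc_32)))) (cocOK_append (a := 3000) (b := 2775) (cocOK_append (a := 1500) (b := 1500) (cocOK_append (a := 500) (b := 1000) coc_33 (cocOK_append (a := 500) (b := 500) coc_34 coc_35)) (cocOK_append (a := 500) (b := 1000) coc_36 (cocOK_append (a := 500) (b := 500) coc_37 coc_38))) (cocOK_append (a := 1500) (b := 1275) (cocOK_append (a := 500) (b := 1000) coc_39 (cocOK_append (a := 500) (b := 500) coc_40 coc_41)) (cocOK_append (a := 500) (b := 775) coc_42 (cocOK_append (a := 500) (b := 275) coc_43 coc_44))))))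

end Cfsg.Lib.CosetEnum.MclCover
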